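import Groth.Agent.Dix.K951.GoodBase
import Groth.Agent.EtCoh.K721.IdealVan
import Groth.Agent.Surf.K464.Base
import Groth.Agent.S8914
import Groth.Agent.Sga67.TensorOps
import Groth.Agent.Ega2.TensMon
import Groth.Statements.S19260

/-!
# Vanishing of the étale cohomology of the ideals of the thickenings

For an effective Cartier ideal `𝓘` whose powers have no cohomology in degrees `≤ N - 1`, the étale sheaf
`K (jn 𝓘 n)` of the functions vanishing on the `n`-th thickening has no cohomology in degrees `≤ N - 1`.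
-/

set_option autoImplicit false
universe u
open CategoryTheory CategoryTheory.Limits AlgebraicGeometry Opposite

namespace K876.NodeA

open K951.GoodBase Groth.Agent

/-- The ideal module of a power of an effective Cartier ideal is the tensor power. -/
theorem nonempty_tensorPow {X : Scheme.{u}} {𝓘 : X.IdealSheafData} (h𝓘 : BlowUp.IsEffCartierIdeal 𝓘) (n : ℕ) :
    Nonempty (CohB1.tensorPow (ClSub.idealMod 𝓘) n ≅ ClSub.idealMod (𝓘 ^ n)) := by
  have h := K464.Base.ic_pow h𝓘 n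
  unfold K464.Base.ic at h
  rw [← Grpsch.PicGrp.mk_tensorPow, Grpsch.PicGrp.mk_eq_iff] at h
  exact ⟨h.some.symm⟩

/-- `𝓘^{⊗ n}` is the kernel of `O_X → j_* O` for the `n`-th thickening `j`. -/
theorem nonempty_I {X : Scheme.{u}} {𝓘 : X.IdealSheafData} (h𝓘 : BlowUp.IsEffCartierIdeal 𝓘) (n : ℕ) :
    Nonempty (CohB1.tensorPow (ClSub.idealMod 𝓘) n ≅ Etbc.H212.KZar.I (jn 𝓘 n)) := by
  obtain ⟨e⟩ := nonempty_tensorPow h𝓘 n
  obtain ⟨e'⟩ := K721.IdealVan.nonempty_I X (𝓘 ^ n)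
  exact ⟨e ≪≫ (Sga67.TensorOps.tensorUnit (ClSub.idealMod (𝓘 ^ n))).symm ≪≫ e'⟩

theorem nodeA (k : Type u) [Field k] (p : ℕ) [Fact p.Prime] [CharP k p]
    (X : Scheme.{u}) (f : X ⟶ Spec (CommRingCat.of k)) [IsProper f] (N : ℕ) [SmoothOfRelativeDimension N f]
    (𝓘 : X.IdealSheafData) (L : X.Modules) (hL : ClSub.IsInverseOf L (ClSub.idealMod 𝓘))
    (hsa : ∀ (q : ℕ) (Ω : X.Modules), ExtPow.IsExtPow q (Omega.sheaf (specULiftZIsTerminal.from X)) Ω →
      ∀ n i : ℕ, 1 ≤ n → i + q + 1 ≤ N →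
        Subsingleton (Coh.HH X (CohB1.tensorMod (CohB1.tensorPow (ClSub.idealMod 𝓘) n) Ω) i))
    (n : ℕ) (hn : 1 ≤ n) (q : ℕ) (hq : q + 1 ≤ N) :
    Subsingleton (EtCoh.H X (Groth.Agent.Etbc.H212.ASClosed.K (jn 𝓘 n)) q) := by
  have h𝓘 : BlowUp.IsEffCartierIdeal 𝓘 := (Groth.Agent.S8914.result 𝓘).1 (Fga.IntAdd.isInvertible_of_tensor hL.some)
  obtain ⟨e⟩ := nonempty_I h𝓘 n
  refine Etbc.H212.KZar.subsingleton_H_K (jn 𝓘 n) q ?_
  refine K721.IdealVan.subsingleton_of_iso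
    ((Ega2.Tens.runit (CohB1.tensorPow (ClSub.idealMod 𝓘) n)) ≪≫ e) q ?_
  exact hsa 0 _ (Sga67.TensorOps.isExtPow_zero _) n q hn (by omega)

end K876.NodeA
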